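import Mathlib
import Cfsg.Agent.Leech.PairCounts

/-! Every vector of squared length 48 is a sum of two of squared length 32 in 552 ordered ways,
and such decompositions form one orbit. -/

set_option autoImplicit false

namespace CfsgLib.Leech

open Cfsg
open scoped Pointwise

theorem ip_decomp {u v : leechLattice} (hu : nrm u = 48) (hv : nrm v = 32) :
    nrm (u - v) = 32 ↔ ip u v = 24 := by
  rw [nrm_sub, hu, hv]
  omega

theorem ip_neg8_decomp {u v : leechLattice} (hu : nrm u = 48) (hv : nrm v = 32)
    (h : ip u v = 24) : ip v (u - v) = -8 := by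
  rw [ip_sub_right, ip_comm v u, ip_self, h, hv]
  norm_num

/-- Decompositions of vectors of squared length 48 form one orbit. -/
theorem exists_decomp_smul (u u' v v' : leechLattice) (hu : nrm u = 48) (hv : nrm v = 32)
    (hd : ip u v = 24) (hu' : nrm u' = 48) (hv' : nrm v' = 32) (hd' : ip u' v' = 24) :
    ∃ g : Co0, g • u = u' ∧ g • v = v' := by
  obtain ⟨g, hg1, hg2⟩ := exists_pair8 v (-(u - v)) v' (-(u' - v')) hv
    (by rw [nrm_neg, (ip_decomp hu hv).2 hd])
    (by rw [ip_neg_right, ip_neg8_decomp hu hv hd]; norm_num) hv'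
    (by rw [nrm_neg, (ip_decomp hu' hv').2 hd'])
    (by rw [ip_neg_right, ip_neg8_decomp hu' hv' hd']; norm_num)
  refine ⟨g, ?_, hg1⟩
  rw [co0_map_neg, neg_inj, co0_map_sub, hg1] at hg2
  exact sub_left_inj.1 hg2

theorem nrm_leechV : nrm Spor.leechV = 48 := by
  show sqNorm Spor.vecV = 48
  decide +kernel

theorem ip_leechV (v : leechLattice) :
    ip Spor.leechV v = -(∑ i, (v : GolayPt → ℤ) i) - 4 * (v : GolayPt → ℤ) none := by
  have : ∀ i, (Spor.leechV : GolayPt → ℤ) i * (v : GolayPt → ℤ) i =
      -(v : GolayPt → ℤ) i + single none (-4 * (v : GolayPt → ℤ) none) i := by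
    intro i
    simp only [Spor.leechV, Spor.vecV, single]
    split_ifs with h
    · subst h; ring
    · ring
  simp only [ip, dotInt, this, Finset.sum_add_distrib, Finset.sum_neg_distrib, sum_single]
  ring

theorem card_octads_none :
    (Golay.codeSets.filter fun s => s.card = 8 ∧ (none : GolayPt) ∈ s).card = 253 := by
  rw [Golay.card_filter_codeSets (q' := fun w => Golay.pop w == 8 && w.testBit (Golay.idx none).val)
    (fun n _ => by simp [Golay.pop_eq_card])]
  decide +kernel

/-- The even summands of `leechV` are at most 276. -/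
theorem card_even_summands :
    ((nbrs Spor.leechV 24).filter fun v : leechLattice => (v : GolayPt → ℤ) none % 2 = 0).card ≤ 276 := by
  classical
  let A : Finset (GolayPt → ℤ) :=
    (Finset.univ.erase (none : GolayPt)).image fun j => fun i =>
      -(single none 4 i + single j 4 i)
  let C : Finset (GolayPt → ℤ) :=
    (Golay.codeSets.filter fun s => s.card = 8 ∧ (none : GolayPt) ∈ s).image
      fun s => fun i => if i ∈ s then -2 else 0
  have hle : (A ∪ C).card ≤ 276 := by
    refine (Finset.card_union_le _ _).trans ?_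
    have h1 : A.card ≤ 23 := Finset.card_image_le.trans (by decide +kernel)
    have h2 : C.card ≤ 253 := Finset.card_image_le.trans (le_of_eq card_octads_none)
    omega
  refine le_trans (Finset.card_le_card_of_injOn Subtype.val ?_ Subtype.val_injective.injOn) hle
  intro v hv
  rw [Finset.mem_coe, Finset.mem_filter, mem_nbrs, ip_leechV] at hv
  obtain ⟨⟨hn, hd⟩, heven⟩ := hv
  obtain ⟨a, ha, hc⟩ : ∃ a, IsTwice v a ∧ red a ∈ golayCode := by
    rcases odd_or_even v with h | h
    · exact h
    · have := h none; omega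
  have hsq : ∑ i, a i ^ 2 = 8 := by
    have : nrm v = 4 * ∑ i, a i ^ 2 := by
      simp only [nrm, sqNorm, Finset.mul_sum]
      exact Finset.sum_congr rfl fun i _ => by rw [ha i]; ring
    omega
  have hlin : ∑ i, a i + 4 * a none = -12 := by
    have : ∑ i, (v : GolayPt → ℤ) i = 2 * ∑ i, a i := by
      rw [Finset.mul_sum]
      exact Finset.sum_congr rfl fun i _ => ha i
    have := ha none
    omega
  rw [Finset.mem_coe, Finset.mem_union]
  by_cases h0 : red a = 0
  · left
    rw [red_eq_zero_iff] at h0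
    choose y hy using h0
    have hy2 : ∑ i, y i ^ 2 = 2 := by
      have : ∑ i, a i ^ 2 = 4 * ∑ i, y i ^ 2 := by
        rw [Finset.mul_sum]
        exact Finset.sum_congr rfl fun i _ => by rw [hy i]; ring
      omega
    have hyl : ∑ i, y i + 4 * y none = -6 := by
      have : ∑ i, a i = 2 * ∑ i, y i := by
        rw [Finset.mul_sum]
        exact Finset.sum_congr rfl fun i _ => hy i
      have := hy none
      omega
    set R := Finset.univ.erase (none : GolayPt) with hR
    have e1 : y none + ∑ i ∈ R, y i = ∑ i, y i :=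
      Finset.add_sum_erase Finset.univ y (Finset.mem_univ none)
    have e2 : y none ^ 2 + ∑ i ∈ R, y i ^ 2 = ∑ i, y i ^ 2 :=
      Finset.add_sum_erase Finset.univ (fun i => y i ^ 2) (Finset.mem_univ none)
    rw [hy2] at e2
    have hbd : ∀ z : ℤ, -(z ^ 2) ≤ z := fun z => by
      rcases le_or_gt 0 z with h | h <;> nlinarith
    have hlow : ∑ i ∈ R, -(y i ^ 2) ≤ ∑ i ∈ R, y i := Finset.sum_le_sum fun i _ => hbd _
    rw [Finset.sum_neg_distrib] at hlow
    have hnn : ∀ i ∈ R, 0 ≤ y i ^ 2 := fun i _ => sq_nonneg _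
    have hR0 := Finset.sum_nonneg hnn
    have hy0 : y none = -1 := by
      have : -1 ≤ y none ∧ y none ≤ 1 := ⟨by nlinarith, by nlinarith⟩
      obtain ⟨l, u⟩ := this
      interval_cases h : y none <;> norm_num at e2 <;> omega
    rw [hy0] at e1 e2
    have hR1 : ∑ i ∈ R, y i ^ 2 = 1 := by norm_num at e2; omega
    obtain ⟨j, hj, hj0⟩ : ∃ j ∈ R, y j < 0 := by
      by_contra! hall
      have := Finset.sum_nonneg hall
      omega
    have hadd := Finset.add_sum_erase R (fun i => y i ^ 2) hj
    have hjsq : 1 ≤ y j ^ 2 := by nlinarith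
    have hnn' : ∀ i ∈ R.erase j, 0 ≤ y i ^ 2 := fun i _ => sq_nonneg _
    have hj1 : y j = -1 := by
      have := Finset.sum_nonneg hnn'
      have h1 : y j ^ 2 ≤ 1 := by omega
      nlinarith
    refine Finset.mem_image.2 ⟨j, hj, funext fun i => ?_⟩
    rw [ha i, hy i]
    rcases eq_or_ne i none with rfl | hi
    · simp [single, hy0, (Finset.mem_erase.1 hj).1.symm]
    rcases eq_or_ne i j with rfl | hij
    · simp [single, hj1, hi]
    · have h1 := Finset.single_le_sum hnn'
        (Finset.mem_erase.2 ⟨hij, Finset.mem_erase.2 ⟨hi, Finset.mem_univ i⟩⟩)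
      have : y i ^ 2 = 0 := le_antisymm (by omega) (sq_nonneg _)
      rw [pow_eq_zero_iff (by norm_num : 2 ≠ 0) |>.1 this]
      simp [single, hi, hij]
  · right
    set S := support₂ (red a) with hS
    have h8 := eight_le_weight hc h0
    rw [← hS] at h8
    have hS1 : ∀ i ∈ S, 1 ≤ a i ^ 2 := fun i hi =>
      one_le_sq_of_odd ((mem_support₂_red a i).1 hi)
    have hSle : ∑ i ∈ S, a i ^ 2 ≤ 8 :=
      hsq ▸ Finset.sum_le_univ_sum_of_nonneg fun i => sq_nonneg (a i)
    have hScard : (S.card : ℤ) ≤ ∑ i ∈ S, a i ^ 2 := by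
      calc (S.card : ℤ) = ∑ _i ∈ S, (1 : ℤ) := by simp
        _ ≤ _ := Finset.sum_le_sum hS1
    have hone := all_eq_one_of_sum_le hS1 (by omega)
    have hout : ∀ i, i ∉ S → a i = 0 := by
      intro i hi
      by_contra hne
      have h1 : ∑ k ∈ insert i S, a k ^ 2 ≤ 8 :=
        hsq ▸ Finset.sum_le_univ_sum_of_nonneg fun i => sq_nonneg (a i)
      rw [Finset.sum_insert hi] at h1
      have := sq_pos_of_ne_zero hne
      omega
    have hval : ∀ i, -1 ≤ a i ∧ a i ≤ 1 := by
      intro i
      by_cases hi : i ∈ S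
      · rcases sq_eq_one_iff.1 (hone i hi) with e | e <;> omega
      · rw [hout i hi]; omega
    have hsumS : ∑ i, a i = ∑ i ∈ S, a i :=
      (Finset.sum_subset (Finset.subset_univ S) fun i _ hi => hout i hi).symm
    have hSlow : -(S.card : ℤ) ≤ ∑ i ∈ S, a i := by
      calc -(S.card : ℤ) = ∑ _i ∈ S, (-1 : ℤ) := by simp
        _ ≤ _ := Finset.sum_le_sum fun i _ => (hval i).1
    have hn1 : a none = -1 := by have := hval none; omega
    have hnS : none ∈ S := by
      by_contra hn'
      rw [hout none hn'] at hn1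
      omega
    have hall : ∀ i ∈ S, a i = -1 := by
      intro i hi
      by_contra hne
      have : ∑ _i ∈ S, (-1 : ℤ) < ∑ i ∈ S, a i :=
        Finset.sum_lt_sum (fun k _ => (hval k).1)
          ⟨i, hi, lt_of_le_of_ne (hval i).1 (Ne.symm hne)⟩
      simp at this
      omega
    refine Finset.mem_image.2 ⟨S, ?_, funext fun i => ?_⟩
    · rw [Finset.mem_filter, Golay.mem_codeSets]
      exact ⟨mem_supports hc rfl, by omega, hnS⟩
    · rw [ha i]
      split_ifs with h
      · rw [hall i h]; norm_num
      · rw [hout i h]; norm_num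

theorem card_summands_leechV : (nbrs Spor.leechV 24).card ≤ 552 := by
  classical
  rw [← Finset.card_filter_add_card_filter_not
    (fun v : leechLattice => (v : GolayPt → ℤ) none % 2 = 0)]
  have h1 := card_even_summands
  have h2 : ((nbrs Spor.leechV 24).filter fun v : leechLattice => ¬ (v : GolayPt → ℤ) none % 2 = 0).card ≤
      ((nbrs Spor.leechV 24).filter fun v : leechLattice => (v : GolayPt → ℤ) none % 2 = 0).card := by
    refine Finset.card_le_card_of_injOn (fun v => Spor.leechV - v) ?_
      (fun v _ w _ h => sub_right_inj.1 h)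
    intro v hv
    rw [Finset.mem_coe, Finset.mem_filter, mem_nbrs] at hv
    rw [Finset.mem_coe, Finset.mem_filter, mem_nbrs]
    obtain ⟨⟨hn, hd⟩, hodd⟩ := hv
    refine ⟨⟨(ip_decomp nrm_leechV hn).2 hd, ?_⟩, ?_⟩
    · rw [ip_sub_right, ip_self, nrm_leechV, hd]
      norm_num
    · simp only [AddSubgroup.coe_sub, Pi.sub_apply, Spor.leechV, Spor.vecV, if_true]
      omega
  omega

theorem exists_summand_leechV : ∃ v, nrm v = 32 ∧ ip Spor.leechV v = 24 := by
  refine ⟨-Spor.leechU, by rw [nrm_neg, nrm_leechU], ?_⟩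
  rw [ip_neg_right, ip_comm, ip_leechU]
  simp [Spor.leechV, Spor.vecV]

/-- Every vector of squared length 48 has exactly 552 summands. -/
theorem card_summands {u : leechLattice} (hu : nrm u = 48) : (nbrs u 24).card = 552 := by
  classical
  have hbound : ∀ u ∈ shell 48, (nbrs u 24).card ≤ 552 := by
    intro u hu
    rw [mem_shell] at hu
    rcases (nbrs u 24).eq_empty_or_nonempty with h | ⟨v, hv⟩
    · simp [h]
    · rw [mem_nbrs] at hv
      obtain ⟨v', hv', hd'⟩ := exists_summand_leechV
      obtain ⟨g, hg, -⟩ := exists_decomp_smul u _ v v' hu hv.1 hv.2 nrm_leechV hv' hd'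
      rw [← card_nbrs_smul g, hg]
      exact card_summands_leechV
  have h := Finset.card_eq_sum_card_fiberwise (s := pairsIp (-8)) (t := shell 48)
    (f := fun p => p.1 + p.2) (fun p hp => by
      obtain ⟨h1, h2, h3⟩ := mem_pairsIp.1 (Finset.mem_coe.1 hp)
      rw [Finset.mem_coe, mem_shell, nrm_add, h1, h2, h3]
      norm_num)
  rw [card_pairsIp, census.2.1] at h
  have hfib : ∀ x ∈ shell 48, ((pairsIp (-8)).filter fun p => p.1 + p.2 = x).card =
      (nbrs x 24).card := by
    intro x hx
    rw [mem_shell] at hx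
    refine Finset.card_bij (fun p _ => p.1) ?_ ?_ ?_
    · intro p hp
      rw [Finset.mem_filter, mem_pairsIp] at hp
      obtain ⟨⟨h1, h2, h3⟩, rfl⟩ := hp
      rw [mem_nbrs]
      refine ⟨h1, ?_⟩
      rw [ip_comm, ip_add_right, ip_self, h1, h3]
      norm_num
    · intro p hp q hq hpq
      rw [Finset.mem_filter] at hp hq
      refine Prod.ext hpq ?_
      have := hp.2.trans hq.2.symm
      rw [hpq] at this
      exact add_left_cancel this
    · intro v hv
      rw [mem_nbrs] at hv
      refine ⟨(v, x - v), ?_, rfl⟩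
      rw [Finset.mem_filter, mem_pairsIp]
      exact ⟨⟨hv.1, (ip_decomp hx hv.1).2 hv.2, ip_neg8_decomp hx hv.1 hv.2⟩,
        add_sub_cancel v x⟩
  rw [Finset.sum_congr rfl hfib] at h
  have heq : ∑ x ∈ shell 48, (nbrs x 24).card = ∑ _x ∈ shell 48, 552 := by
    rw [← h, Finset.sum_const, card_shell48, smul_eq_mul]
  exact (Finset.sum_eq_sum_iff_of_le hbound).1 heq u (mem_shell.2 hu)

end CfsgLib.Leech
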